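import Cfsg.Agent.Lib.ZJ.Plane
import Cfsg.Agent.Lib.ZJ.InvCentral
import Cfsg.Agent.Lib.ZJ.StableQuot
import Cfsg.Agent.Lib.ReeG2.L5
import Cfsg.Agent.Lib.Invol2.QdFree

/-!
# No quadratic action for `PSL₂(q)`, `q` odd, and the Ree groups

Two quadratic elements not generating a `p`-group give an element of even order centralizing a
`p`-element (impossible in `PSL₂(F)`) and, for `p = 3`, a copy of `Q₈` in a section (impossible in a
group with abelian Sylow `2`-subgroups).
-/

set_option autoImplicit false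
set_option linter.unusedSectionVars false
set_option linter.unusedVariables false
set_option linter.style.haveILetI false
set_option linter.unusedSimpArgs false

open scoped MatrixGroups commutatorElement
open Matrix

namespace Cfsg.Agent.Lib.NoQuad.Core

open Cfsg Cfsg.Agent.Lib.ZJ.DicksonPair Cfsg.Agent.Lib.ZJ.Plane Cfsg.Agent.Lib.QuadAct.ThmA
open Cfsg.Agent.Lib.QuadAct.ThmAx Cfsg.Agent.Lib.ZJ.InvCentral

universe u

variable {p : ℕ} [hpf : Fact p.Prime]

section psl

variable {F : Type*} [Field F]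

/-- Square-zero from the trace. -/
lemma sq_zero_of_trace' (z : SL(2, F)) {δ : F} (hδ : δ * δ = 1)
    (h : Matrix.trace (z : Matrix (Fin 2) (Fin 2) F) = 2 * δ) :
    ((z : Matrix (Fin 2) (Fin 2) F) - δ • 1) * ((z : Matrix (Fin 2) (Fin 2) F) - δ • 1) = 0 := by
  have hdet := z.2
  rw [Matrix.det_fin_two] at hdet
  rw [Matrix.trace_fin_two] at h
  set a := (z : Matrix (Fin 2) (Fin 2) F) 0 0 with ha
  set b := (z : Matrix (Fin 2) (Fin 2) F) 0 1 with hb
  set c := (z : Matrix (Fin 2) (Fin 2) F) 1 0 with hc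
  set d := (z : Matrix (Fin 2) (Fin 2) F) 1 1 with hd
  ext i j
  fin_cases i <;> fin_cases j <;>
    simp [Matrix.mul_apply, Fin.sum_univ_two, Matrix.one_apply, ← ha, ← hb, ← hc, ← hd]
  · linear_combination (-1 : F) * hdet + a * h + hδ
  · linear_combination b * h
  · linear_combination c * h
  · linear_combination (-1 : F) * hdet + d * h + hδ

variable [CharP F p]

lemma two_ne_zero_of_ne (hp : p ≠ 2) : (2 : F) ≠ 0 := by
  intro h
  have h3 : ((2 : ℕ) : F) = 0 := by exact_mod_cast h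
  rw [CharP.cast_eq_zero_iff F p] at h3
  exact hp ((Nat.prime_dvd_prime_iff_eq Fact.out Nat.prime_two).1 h3)

/-- In `PSL₂(F)`, the centralizer of an element of order `p` has exponent `p`. -/
theorem psl_comm_pow (hp : p ≠ 2) {α θ : ProjectiveSpecialLinearGroup (Fin 2) F} (hα : α ≠ 1)
    (hαp : α ^ p = 1) (hc : θ * α = α * θ) : θ ^ p = 1 := by
  classical
  have hp2 : (2 : F) ≠ 0 := two_ne_zero_of_ne (p := p) hp
  obtain ⟨A, rfl⟩ := QuotientGroup.mk_surjective α
  obtain ⟨B, rfl⟩ := QuotientGroup.mk_surjective θ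
  set mA := (A : Matrix (Fin 2) (Fin 2) F) with hmA
  set mB := (B : Matrix (Fin 2) (Fin 2) F) with hmB
  set mBi := ((B⁻¹ : SL(2, F)) : Matrix (Fin 2) (Fin 2) F) with hmBi
  have hBBi : mB * mBi = 1 := by
    rw [hmB, hmBi, ← Matrix.SpecialLinearGroup.coe_mul]
    simp
  have hBiB : mBi * mB = 1 := by
    rw [hmB, hmBi, ← Matrix.SpecialLinearGroup.coe_mul]
    simp
  -- the trace of `A`
  have htrA : Matrix.trace mA = 2 ∨ Matrix.trace mA = -2 :=
    trace_of_mk_pow (p := p) A 1 (by rw [pow_one]; exact hαp)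
  obtain ⟨δ, hδ, htA⟩ : ∃ δ : F, δ * δ = 1 ∧ Matrix.trace mA = 2 * δ := by
    rcases htrA with h | h
    · exact ⟨1, by simp, by rw [h]; ring⟩
    · exact ⟨-1, by simp, by rw [h]; ring⟩
  have hδ0 : δ ≠ 0 := by
    rintro rfl
    simp at hδ
  have htA0 : Matrix.trace mA ≠ 0 := by
    rw [htA]
    exact mul_ne_zero hp2 hδ0
  -- commutation
  have hc' : ((B * A : SL(2, F)) : ProjectiveSpecialLinearGroup (Fin 2) F) =
      ((A * B : SL(2, F)) : ProjectiveSpecialLinearGroup (Fin 2) F) := hc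
  obtain ⟨r, hr, hrab⟩ := (mk_eq_mk_iff _ _).1 hc'
  rw [Matrix.SpecialLinearGroup.coe_mul, Matrix.SpecialLinearGroup.coe_mul] at hrab
  change mA * mB = r • (mB * mA) at hrab
  have h2 : mA = r • (mB * mA * mBi) := by
    calc mA = mA * (mB * mBi) := by rw [hBBi, Matrix.mul_one]
      _ = (mA * mB) * mBi := by rw [Matrix.mul_assoc]
      _ = r • (mB * mA * mBi) := by rw [hrab, Matrix.smul_mul]
  have h3 : Matrix.trace mA = r * Matrix.trace mA := by
    conv_lhs => rw [h2]
    rw [Matrix.trace_smul, smul_eq_mul, Matrix.trace_mul_comm, ← Matrix.mul_assoc, hBiB,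
      Matrix.one_mul]
  have hr1 : r = 1 := by
    have h4 : (r - 1) * Matrix.trace mA = 0 := by rw [sub_mul, ← h3]; ring
    rcases mul_eq_zero.1 h4 with h5 | h5
    · exact sub_eq_zero.1 h5
    · exact absurd h5 htA0
  rw [hr1, one_smul] at hrab
  -- `A - δ` is non-zero and square-zero
  have hN := sq_zero_of_trace' A hδ htA
  rw [← hmA] at hN
  have hne : mA - δ • 1 ≠ 0 := by
    intro h0
    apply hα
    rw [mk_eq_one_iff]
    refine ⟨δ, by rw [pow_two]; exact hδ, ?_⟩
    exact sub_eq_zero.1 h0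
  -- entries
  have hdet := B.2
  rw [Matrix.det_fin_two] at hdet
  change mB 0 0 * mB 1 1 - mB 0 1 * mB 1 0 = 1 at hdet
  rw [Matrix.trace_fin_two] at htA
  have e00 := congrFun (congrFun hrab 0) 0
  have e01 := congrFun (congrFun hrab 0) 1
  have e10 := congrFun (congrFun hrab 1) 0
  simp only [Matrix.mul_apply, Fin.sum_univ_two] at e00 e01 e10
  have n00 := congrFun (congrFun hN 0) 0
  simp only [Matrix.mul_apply, Fin.sum_univ_two, Matrix.sub_apply, Matrix.smul_apply,
    Matrix.one_apply, smul_eq_mul, Matrix.zero_apply] at n00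
  simp at n00
  set a := mA 0 0 - δ with ha
  set b := mA 0 1 with hb
  set c := mA 1 0 with hc1
  set d := mA 1 1 with hd
  set x := mB 0 0 with hx
  set y := mB 0 1 with hy
  set z := mB 1 0 with hz
  set w := mB 1 1 with hw
  have hA00 : mA 0 0 = a + δ := by rw [ha]; ring
  rw [hA00] at e00 e01 e10 htA
  have hd' : d = δ - a := by linear_combination htA
  have e1 : b * z = y * c := by linear_combination e00
  have e2 : b * (x - w) = 2 * a * y := by rw [hd'] at e01; linear_combination -e01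
  have e3 : c * (x - w) = 2 * a * z := by rw [hd'] at e10; linear_combination e10
  have e4 : a * a + b * c = 0 := by linear_combination n00
  have hbc : b ≠ 0 ∨ c ≠ 0 := by
    by_contra hcon
    push Not at hcon
    apply hne
    have ha0 : a = 0 := by
      have : a * a = 0 := by rw [← e4, hcon.1]; ring
      exact mul_self_eq_zero.1 this
    ext i j
    fin_cases i <;> fin_cases j <;> simp [Matrix.sub_apply, Matrix.one_apply]
    · linear_combination ha0
    · exact hcon.1
    · exact hcon.2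
    · change d - δ = 0
      rw [hd']; linear_combination -ha0
  have hD : (x - w) ^ 2 + 4 * (y * z) = 0 := by
    rcases hbc with h | h
    · have : b ^ 2 * ((x - w) ^ 2 + 4 * (y * z)) = 0 := by
        linear_combination (b * (x - w) + 2 * a * y) * e2 + 4 * b * y * e1 + 4 * y ^ 2 * e4
      exact (mul_eq_zero.1 this).resolve_left (pow_ne_zero 2 h)
    · have : c ^ 2 * ((x - w) ^ 2 + 4 * (y * z)) = 0 := by
        linear_combination (c * (x - w) + 2 * a * z) * e3 - 4 * c * z * e1 + 4 * z ^ 2 * e4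
      exact (mul_eq_zero.1 this).resolve_left (pow_ne_zero 2 h)
  have ht : (x + w - 2) * (x + w + 2) = 0 := by
    linear_combination hD + 4 * hdet
  obtain ⟨δ', hδ', htB⟩ : ∃ δ' : F, δ' * δ' = 1 ∧ Matrix.trace mB = 2 * δ' := by
    rw [Matrix.trace_fin_two]
    rcases mul_eq_zero.1 ht with h | h
    · exact ⟨1, by simp, by linear_combination h⟩
    · exact ⟨-1, by simp, by linear_combination h⟩
  -- the power of `B`
  have hM := sq_zero_of_trace' B hδ' htB
  rw [← hmB] at hM
  have hcomm : Commute (δ' • (1 : Matrix (Fin 2) (Fin 2) F)) (mB - δ' • 1) := by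
    refine Commute.smul_left (Commute.one_left _) _
  have hpow : mB ^ p = (δ' • (1 : Matrix (Fin 2) (Fin 2) F)) ^ p + (mB - δ' • 1) ^ p := by
    have e := add_pow_char_of_commute p hcomm
    rw [← e]
    congr 1
    abel
  have hMp : (mB - δ' • 1) ^ p = 0 := by
    have h2le : 2 ≤ p := (Fact.out : p.Prime).two_le
    obtain ⟨k, rfl⟩ := Nat.exists_eq_add_of_le h2le
    rw [pow_add, pow_two, hM, zero_mul]
  rw [hMp, add_zero, smul_pow, one_pow] at hpow
  rw [← QuotientGroup.mk_pow, mk_eq_one_iff]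
  refine ⟨δ' ^ p, ?_, ?_⟩
  · rw [← pow_mul, mul_comm, pow_mul, pow_two, hδ', one_pow]
  · rw [Matrix.SpecialLinearGroup.coe_pow]
    exact hpow

end psl

section plane

/-- A Sylow argument for two elements generating a 2-group in a section. -/
theorem comm_of_section {L Γ Z : Type*} [Group L] [Finite L] [Group Γ] [Finite Γ] [Group Z]
    (hL : ∀ P : Sylow 2 L, ∀ x ∈ (P : Subgroup L), ∀ y ∈ (P : Subgroup L), x * y = y * x)
    (j : Γ →* L) (hj : Function.Injective j) (φ : Γ →* Z) {I J : Z} (hI : I ∈ φ.range)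
    (hJ : J ∈ φ.range) (hI4 : I ^ 4 = 1) (hJ4 : J ^ 4 = 1) (hIJ : J * I * J⁻¹ = I⁻¹) :
    I * J = J * I := by
  classical
  -- the Sylow in the range
  haveI : Finite φ.range := Finite.of_surjective φ.rangeRestrict φ.rangeRestrict_surjective
  let S : Sylow 2 Γ := Classical.arbitrary _
  have hSG : IsPGroup 2 ((S : Subgroup Γ).map j) := S.isPGroup'.map j
  obtain ⟨Q, hQ⟩ := hSG.exists_le_sylow
  have hSc : ∀ x ∈ (S : Subgroup Γ), ∀ y ∈ (S : Subgroup Γ), x * y = y * x := by
    intro x hx y hy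
    apply hj
    rw [map_mul, map_mul]
    exact hL Q _ (hQ ⟨x, hx, rfl⟩) _ (hQ ⟨y, hy, rfl⟩)
  let S' : Sylow 2 φ.range := S.mapSurjective φ.rangeRestrict_surjective
  have hS'c : ∀ x ∈ (S' : Subgroup φ.range), ∀ y ∈ (S' : Subgroup φ.range), x * y = y * x := by
    rintro _ ⟨x, hx, rfl⟩ _ ⟨y, hy, rfl⟩
    rw [← map_mul, hSc x hx y hy, map_mul]
  -- the subgroup `⟨I, J⟩`
  let I' : φ.range := ⟨I, hI⟩
  let J' : φ.range := ⟨J, hJ⟩
  have hI4' : I' ^ 4 = 1 := Subtype.ext hI4
  have hJ4' : J' ^ 4 = 1 := Subtype.ext hJ4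
  have hIJ' : J' * I' * J'⁻¹ = I'⁻¹ := Subtype.ext hIJ
  have pg : ∀ g : φ.range, g ^ 4 = 1 → IsPGroup 2 (Subgroup.zpowers g) := by
    intro g hg
    refine IsPGroup.of_card_dvd_pow (n := 2) ?_
    rw [Nat.card_zpowers]
    exact orderOf_dvd_of_pow_eq_one hg
  have hnorm : Subgroup.zpowers J' ≤ Subgroup.normalizer ((Subgroup.zpowers I' : Subgroup φ.range) : Set φ.range) := by
    rw [Subgroup.zpowers_le, Subgroup.mem_normalizer_iff]
    intro h
    have e1 : J'⁻¹ * I' * J' = I'⁻¹ := by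
      have h1 : J' * I'⁻¹ * J'⁻¹ = I' := by
        have : J' * I'⁻¹ * J'⁻¹ = (J' * I' * J'⁻¹)⁻¹ := by group
        rw [this, hIJ', inv_inv]
      calc J'⁻¹ * I' * J' = J'⁻¹ * (J' * I'⁻¹ * J'⁻¹) * J' := by rw [h1]
        _ = I'⁻¹ := by group
    constructor
    · intro hh
      obtain ⟨k, rfl⟩ := Subgroup.mem_zpowers_iff.1 hh
      rw [← conj_zpow, hIJ']
      exact Subgroup.zpow_mem _ (Subgroup.inv_mem _ (Subgroup.mem_zpowers _)) _
    · intro hh
      obtain ⟨k, hk⟩ := Subgroup.mem_zpowers_iff.1 hh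
      have e2 : h = J'⁻¹ * (J' * h * J'⁻¹) * J' := by group
      rw [e2, ← hk]
      have e3 : J'⁻¹ * I' ^ k * J' = (J'⁻¹ * I' * J') ^ k := by
        have := conj_zpow (a := J'⁻¹) (b := I') (i := k)
        simpa using this.symm
      rw [e3, e1]
      exact Subgroup.zpow_mem _ (Subgroup.inv_mem _ (Subgroup.mem_zpowers _)) _
  have hT := (pg J' hJ4').to_sup_of_normal_right' (pg I' hI4') hnorm
  obtain ⟨P, hP⟩ := hT.exists_le_sylow
  have hcom := Cfsg.Agent.Lib.Invol2.QdFree.sylow_comm_of_conj S' hS'c P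
  have hIm : I' ∈ (P : Subgroup φ.range) :=
    hP (Subgroup.mem_sup_right (Subgroup.mem_zpowers _))
  have hJm : J' ∈ (P : Subgroup φ.range) :=
    hP (Subgroup.mem_sup_left (Subgroup.mem_zpowers _))
  obtain ⟨⟨hc⟩⟩ := hcom
  have := hc ⟨_, hIm⟩ ⟨_, hJm⟩
  have h2 := congrArg (fun z : (P : Subgroup φ.range) => ((z : φ.range) : Z)) this
  exact h2

/-- A natural plane for `p = 3` gives a contradiction in a group with abelian Sylow `2`-subgroups. -/
theorem false_of_plane {L : Type*} [Group L] [Finite L]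
    (hL : ∀ P : Sylow 2 L, ∀ x ∈ (P : Subgroup L), ∀ y ∈ (P : Subgroup L), x * y = y * x)
    {M : Type*} [AddCommGroup M] [Module (ZMod 3) M] (ρ : L →* Module.End (ZMod 3) M) {x y : L}
    {v w : M} (hv : v ≠ 0) (h1 : ρ x v = v) (h2 : ρ x w = w - (2 : ZMod 3) • v)
    (h3 : ρ y v = v + w) (h4 : ρ y w = w) : False := by
  classical
  have c3 : (2 : ZMod 3) = -1 := by decide
  have h2' : ρ x w = w + v := by
    rw [h2, c3, neg_smul, one_smul, sub_neg_eq_add]
  have hw : w ≠ 0 := by
    rintro rfl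
    apply hv
    have h5 := h2'
    rw [map_zero, zero_add] at h5
    exact h5.symm
  have hinv : ∀ (g : L) (u : M), ρ g⁻¹ (ρ g u) = u := by
    intro g u
    rw [← Module.End.mul_apply, ← map_mul]
    simp
  have three : ∀ u : M, (3 : ZMod 3) • u = 0 := by
    intro u
    have : (3 : ZMod 3) = 0 := by decide
    rw [this, zero_smul]
  -- inverses
  have x1 : ρ x⁻¹ v = v := by
    have := hinv x v
    rwa [h1] at this
  have x2 : ρ x⁻¹ w = w - v := by
    have := hinv x (w - v)
    rw [map_sub, h2', h1, add_sub_cancel_right] at this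
    exact this
  have y2 : ρ y⁻¹ w = w := by
    have := hinv y w
    rwa [h4] at this
  have y1 : ρ y⁻¹ v = v - w := by
    have := hinv y (v - w)
    rw [map_sub, h3, h4, add_sub_cancel_right] at this
    exact this
  -- the plane
  let U : Submodule (ZMod 3) M := Submodule.span (ZMod 3) {v, w}
  have hvU : v ∈ U := Submodule.subset_span (by simp)
  have hwU : w ∈ U := Submodule.subset_span (by simp)
  have hT : ∀ T : Module.End (ZMod 3) M, T v ∈ U → T w ∈ U → ∀ u ∈ U, T u ∈ U := by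
    intro T ha hb u hu
    obtain ⟨c, d, rfl⟩ := Submodule.mem_span_pair.1 hu
    rw [map_add, map_smul, map_smul]
    exact U.add_mem (U.smul_mem _ ha) (U.smul_mem _ hb)
  let Stab : Subgroup L :=
    { carrier := {g | ∀ u ∈ U, ρ g u ∈ U ∧ ρ g⁻¹ u ∈ U}
      one_mem' := by
        intro u hu
        simpa using hu
      mul_mem' := by
        intro a b ha hb u hu
        constructor
        · rw [map_mul, Module.End.mul_apply]
          exact (ha _ (hb u hu).1).1
        · rw [_root_.mul_inv_rev, map_mul, Module.End.mul_apply]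
          exact (hb _ (ha u hu).2).2
      inv_mem' := by
        intro a ha u hu
        constructor
        · exact (ha u hu).2
        · rw [inv_inv]
          exact (ha u hu).1 }
  have hxS : x ∈ Stab := by
    intro u hu
    refine ⟨hT _ ?_ ?_ u hu, hT _ ?_ ?_ u hu⟩
    · rw [h1]; exact hvU
    · rw [h2']; exact U.add_mem hwU hvU
    · rw [x1]; exact hvU
    · rw [x2]; exact U.sub_mem hwU hvU
  have hyS : y ∈ Stab := by
    intro u hu
    refine ⟨hT _ ?_ ?_ u hu, hT _ ?_ ?_ u hu⟩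
    · rw [h3]; exact U.add_mem hvU hwU
    · rw [h4]; exact hwU
    · rw [y1]; exact U.sub_mem hvU hwU
    · rw [y2]; exact hwU
  let ρ' : Stab →* Module.End (ZMod 3) M := ρ.comp Stab.subtype
  have hU : ∀ g : Stab, ∀ u ∈ U, ρ' g u ∈ U := fun g u hu => (g.2 u hu).1
  let ψ : Stab →* Module.End (ZMod 3) U := resHom ρ' U hU
  let x' : Stab := ⟨x, hxS⟩
  let y' : Stab := ⟨y, hyS⟩
  let v' : U := ⟨v, hvU⟩
  let w' : U := ⟨w, hwU⟩
  have hv' : v' ≠ 0 := fun h => hv (congrArg Subtype.val h)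
  have hw' : w' ≠ 0 := fun h => hw (congrArg Subtype.val h)
  have X1 : ψ x' v' = v' := Subtype.ext h1
  have X2 : ψ x' w' = w' + v' := Subtype.ext h2'
  have Y1 : ψ y' v' = v' + w' := Subtype.ext h3
  have Y2 : ψ y' w' = w' := Subtype.ext h4
  have ext2 : ∀ T₁ T₂ : Module.End (ZMod 3) U, T₁ v' = T₂ v' → T₁ w' = T₂ w' → T₁ = T₂ := by
    intro T₁ T₂ h5 h6
    ext1 u
    obtain ⟨u, hu⟩ := u
    obtain ⟨c, d, hcd⟩ := Submodule.mem_span_pair.1 hu
    have e : (⟨u, hu⟩ : U) = c • v' + d • w' := Subtype.ext hcd.symm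
    rw [e, map_add, map_add, map_smul, map_smul, map_smul, map_smul, h5, h6]
  have three' : ∀ u : U, (3 : ZMod 3) • u = 0 := fun u => Subtype.ext (three u)
  set X := ψ x' with hX
  set Y := ψ y' with hY
  have rel1 : (X * Y) * (X * Y) = -1 := by
    apply ext2
    · simp only [Module.End.mul_apply, map_add, X1, X2, Y1, Y2, LinearMap.neg_apply,
        Module.End.one_apply]
      linear_combination (norm := module) (2 : ZMod 3) • three' v' + (1 : ZMod 3) • three' w'
    · simp only [Module.End.mul_apply, map_add, X1, X2, Y1, Y2, LinearMap.neg_apply,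
        Module.End.one_apply]
      linear_combination (norm := module) (1 : ZMod 3) • three' v' + (1 : ZMod 3) • three' w'
  have rel2 : (Y * X) * (Y * X) = -1 := by
    apply ext2
    · simp only [Module.End.mul_apply, map_add, X1, X2, Y1, Y2, LinearMap.neg_apply,
        Module.End.one_apply]
      linear_combination (norm := module) (1 : ZMod 3) • three' v' + (1 : ZMod 3) • three' w'
    · simp only [Module.End.mul_apply, map_add, X1, X2, Y1, Y2, LinearMap.neg_apply,
        Module.End.one_apply]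
      linear_combination (norm := module) (1 : ZMod 3) • three' v' + (2 : ZMod 3) • three' w'
  have rel3 : (Y * X) * (X * Y) = -((X * Y) * (Y * X)) := by
    apply ext2
    · simp only [Module.End.mul_apply, map_add, X1, X2, Y1, Y2, LinearMap.neg_apply,
        Module.End.one_apply, map_neg]
      linear_combination (norm := module) (2 : ZMod 3) • three' v' + (2 : ZMod 3) • three' w'
    · simp only [Module.End.mul_apply, map_add, X1, X2, Y1, Y2, LinearMap.neg_apply,
        Module.End.one_apply, map_neg]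
      linear_combination (norm := module) (2 : ZMod 3) • three' v' + (2 : ZMod 3) • three' w'
  -- the units
  let φ : Stab →* (Module.End (ZMod 3) U)ˣ := ψ.toHomUnits
  have hφ : ∀ g, ((φ g : (Module.End (ZMod 3) U)ˣ) : Module.End (ZMod 3) U) = ψ g := fun g => rfl
  have hI : ((φ (x' * y') : (Module.End (ZMod 3) U)ˣ) : Module.End (ZMod 3) U) = X * Y := by
    rw [hφ, map_mul]
  have hJ : ((φ (y' * x') : (Module.End (ZMod 3) U)ˣ) : Module.End (ZMod 3) U) = Y * X := by
    rw [hφ, map_mul]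
  have hI4 : φ (x' * y') ^ 4 = 1 := by
    apply Units.ext
    rw [Units.val_pow_eq_pow_val, hI, Units.val_one]
    have : (X * Y) ^ 4 = ((X * Y) * (X * Y)) * ((X * Y) * (X * Y)) := by noncomm_ring
    rw [this, rel1]
    noncomm_ring
  have hJ4 : φ (y' * x') ^ 4 = 1 := by
    apply Units.ext
    rw [Units.val_pow_eq_pow_val, hJ, Units.val_one]
    have : (Y * X) ^ 4 = ((Y * X) * (Y * X)) * ((Y * X) * (Y * X)) := by noncomm_ring
    rw [this, rel2]
    noncomm_ring
  have hIJ : φ (y' * x') * φ (x' * y') * (φ (y' * x'))⁻¹ = (φ (x' * y'))⁻¹ := by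
    rw [mul_inv_eq_iff_eq_mul, eq_inv_mul_iff_mul_eq]
    apply Units.ext
    rw [Units.val_mul, Units.val_mul, hI, hJ, rel3]
    have : X * Y * -(X * Y * (Y * X)) = -((X * Y * (X * Y)) * (Y * X)) := by noncomm_ring
    rw [this, rel1]
    noncomm_ring
  have hcomm := comm_of_section hL Stab.subtype Stab.subtype_injective φ
    (I := φ (x' * y')) (J := φ (y' * x')) ⟨_, rfl⟩ ⟨_, rfl⟩ hI4 hJ4 hIJ
  have hcomm2 := congrArg (fun u : (Module.End (ZMod 3) U)ˣ => (u : Module.End (ZMod 3) U) v') hcomm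
  simp only [Units.val_mul, hI, hJ] at hcomm2
  simp only [Module.End.mul_apply, map_add, X1, X2, Y1, Y2] at hcomm2
  apply hw'
  linear_combination (norm := module) hcomm2 + three' w'

end plane

section abstract

variable {L A : Type u} [Group L] [Finite L] [CommGroup A] [Finite A]

/-- The endomorphism form of an action. -/
theorem exists_rho [Module (ZMod p) (Additive A)] (f : L →* MulAut A) :
    ∃ ρ : L →* Module.End (ZMod p) (Additive A),
      (∀ (g : L) (x : Additive A), ρ g x = Additive.ofMul (f g (Additive.toMul x))) ∧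
      ∀ g : L, (∀ v : A, f g (f g v * v⁻¹) = f g v * v⁻¹) → Quad (ρ g) := by
  let ρ₀ : L → Module.End (ZMod p) (Additive A) := fun g =>
    AddMonoidHom.toZModLinearMap p (MonoidHom.toAdditive ((f g).toMonoidHom))
  have h₀ : ∀ (g : L) (x : Additive A), ρ₀ g x = Additive.ofMul (f g (Additive.toMul x)) :=
    fun _ _ => rfl
  let ρ : L →* Module.End (ZMod p) (Additive A) :=
    { toFun := ρ₀
      map_one' := by
        apply LinearMap.ext
        intro x
        rw [h₀, map_one]
        rfl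
      map_mul' := by
        intro g h
        apply LinearMap.ext
        intro x
        rw [h₀, map_mul]
        rfl }
  have hρ : ∀ (g : L) (x : Additive A), ρ g x = Additive.ofMul (f g (Additive.toMul x)) :=
    fun _ _ => rfl
  refine ⟨ρ, hρ, ?_⟩
  intro g hg w
  have := hg (Additive.toMul w)
  rw [hρ, hρ]
  apply Additive.toMul.injective
  simpa [hρ, sub_eq_add_neg] using this

/-- Two quadratic elements not acting as a `p`-group. -/
theorem not_nilp [Module (ZMod p) (Additive A)] (f : L →* MulAut A)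
    (ρ : L →* Module.End (ZMod p) (Additive A))
    (hρ : ∀ (g : L) (x : Additive A), ρ g x = Additive.ofMul (f g (Additive.toMul x)))
    {a b : L} (hqa : Quad (ρ a)) (hqb : Quad (ρ b))
    (hnp : ¬ ∀ g ∈ Subgroup.closure {a, b}, ∃ m : ℕ, f (g ^ p ^ m) = 1) :
    ¬ IsNilpotent ((ρ a - 1) * (ρ b - 1)) := by
  haveI : Finite (Additive A) := inferInstanceAs (Finite A)
  haveI : Module.Finite (ZMod p) (Additive A) := Module.Finite.of_finite
  intro hnil
  set Γ := Subgroup.closure {a, b} with hΓ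
  have haΓ : a ∈ Γ := Subgroup.subset_closure (by simp)
  have hbΓ : b ∈ Γ := Subgroup.subset_closure (by simp)
  have hgen := Cfsg.Agent.Lib.QuadAct.TwoGen.closure_pair_eq_top hΓ haΓ hbΓ
  have := pg_of_nilpotent (p := p) hgen _ (Additive A) (ρ.comp Γ.subtype) rfl hqa hqb hnil
  apply hnp
  intro g hg
  obtain ⟨m, hm⟩ := this ⟨g, hg⟩
  refine ⟨m, ?_⟩
  ext x
  have h1 := congrArg (fun u : Module.End (ZMod p) (Additive A) => u (Additive.ofMul x)) hm
  simp only [MonoidHom.comp_apply, Subgroup.subtype_apply, Subgroup.coe_pow] at h1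
  rw [hρ] at h1
  exact Additive.ofMul.injective h1

/-- A quadratic element has order dividing `p`. -/
theorem pow_eq_one_of_quad [Module (ZMod p) (Additive A)] (f : L →* MulAut A)
    (hf : Function.Injective f) {a : L} (ha : ∀ v : A, f a (f a v * v⁻¹) = f a v * v⁻¹) :
    a ^ p = 1 := by
  obtain ⟨ρ, hρ, hQ⟩ := exists_rho (p := p) f
  have h1 : ρ a ^ p = 1 := pow_char_eq_one_of_quad (K := ZMod p) (hQ a ha)
  apply hf
  rw [map_one]
  ext x
  have h2 := congrArg (fun u : Module.End (ZMod p) (Additive A) => u (Additive.ofMul x)) h1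
  simp only [← map_pow] at h2
  rw [hρ] at h2
  exact Additive.ofMul.injective h2

/-- The `PSL₂` case. -/
theorem false_psl [Module (ZMod p) (Additive A)] (hp : p ≠ 2) {F : Type} [Field F] [CharP F p]
    (e : L ≃* ProjectiveSpecialLinearGroup (Fin 2) F) (f : L →* MulAut A)
    (hf : Function.Injective f) (hexp : ∀ x : A, x ^ p = 1) {a b : L}
    (ha : ∀ v : A, f a (f a v * v⁻¹) = f a v * v⁻¹)
    (hb : ∀ v : A, f b (f b v * v⁻¹) = f b v * v⁻¹)
    (hnp : ¬ ∀ g ∈ Subgroup.closure {a, b}, ∃ m : ℕ, f (g ^ p ^ m) = 1) (ha1 : a ≠ 1) : False := by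
  obtain ⟨τ, -, hτa, v, hv, hτv⟩ := inverting_abstract_aux hp f a b ha hb hnp
  have hcomm : τ * a = a * τ := hf (by rw [map_mul, map_mul, hτa])
  have hap : a ^ p = 1 := pow_eq_one_of_quad f hf ha
  have h1 : e τ ^ p = 1 := by
    refine psl_comm_pow hp (α := e a) ?_ ?_ ?_
    · intro h
      apply ha1
      apply e.injective
      rw [h, map_one]
    · rw [← map_pow, hap, map_one]
    · rw [← map_mul, hcomm, map_mul]
  have h2 : τ ^ p = 1 := by
    apply e.injective
    rw [map_pow, h1, map_one]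
  have hodd : Odd p := (Fact.out : p.Prime).odd_of_ne_two hp
  obtain ⟨k, hk⟩ := hodd
  have h3 : ∀ j : ℕ, (f τ ^ (2 * j)) v = v := by
    intro j
    induction j with
    | zero => simp
    | succ j ih =>
      rw [Nat.mul_succ, pow_add, MulAut.mul_apply, pow_two, MulAut.mul_apply, hτv, map_inv, hτv, inv_inv,
        ih]
  have h4 : (f τ ^ p) v = v⁻¹ := by
    rw [hk, pow_succ', MulAut.mul_apply, h3, hτv]
  rw [← map_pow, h2, map_one] at h4
  have h5 : v * v = 1 := by
    have h6 : (1 : MulAut A) v = v := rfl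
    rw [h6] at h4
    calc v * v = v * v⁻¹ := by rw [← h4]
      _ = 1 := mul_inv_cancel v
  have h7 := hexp v
  rw [hk, pow_succ, pow_mul, pow_two, h5, one_pow, one_mul] at h7
  exact hv h7

/-- The case with abelian Sylow `2`-subgroups. -/
theorem false_three [Fact (Nat.Prime 3)] [Module (ZMod 3) (Additive A)]
    (hL : ∀ P : Sylow 2 L, ∀ x ∈ (P : Subgroup L), ∀ y ∈ (P : Subgroup L), x * y = y * x)
    (f : L →* MulAut A) {a b : L}
    (ha : ∀ v : A, f a (f a v * v⁻¹) = f a v * v⁻¹)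
    (hb : ∀ v : A, f b (f b v * v⁻¹) = f b v * v⁻¹)
    (hnp : ¬ ∀ g ∈ Subgroup.closure {a, b}, ∃ m : ℕ, f (g ^ 3 ^ m) = 1) : False := by
  obtain ⟨ρ, hρ, hQ⟩ := exists_rho (p := 3) f
  have hc := not_nilp f ρ hρ (hQ a ha) (hQ b hb) hnp
  haveI : Finite (Additive A) := inferInstanceAs (Finite A)
  obtain ⟨x, -, y, -, v, w, hv, h1, h2, h3, h4⟩ :=
    exists_plane (p := 3) (by norm_num) ρ (hQ a ha) (hQ b hb) hc
  exact false_of_plane hL ρ hv h1 h2 h3 h4

/-- Irreducible faithful modules in characteristic `p`. -/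
theorem pCore_eq_bot (f : L →* MulAut A) (hf : Function.Injective f) (hexp : ∀ x : A, x ^ p = 1)
    (hnt : ∃ x : A, x ≠ 1)
    (hirr : ∀ U : Subgroup A, (∀ (g : L), ∀ x ∈ U, f g x ∈ U) → U = ⊥ ∨ U = ⊤) :
    pCore p L = ⊥ := by
  classical
  set P := pCore p L with hPdef
  have hP : IsPGroup p P := Cfsg.Agent.Lib.Core.Basic.pCore_isPGroup
  haveI hPn : P.Normal := by
    rw [hPdef]
    haveI := Cfsg.Agent.Lib.Core.Basic.pCore_characteristic (p := p) (G := L)
    exact inferInstance
  letI act : MulAction P A := MulAction.compHom A (f.comp P.subtype)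
  have hact : ∀ (g : P) (x : A), g • x = f g x := fun _ _ => rfl
  obtain ⟨x₀, hx₀⟩ := hnt
  have hord : orderOf x₀ = p := orderOf_eq_prime (hexp x₀) hx₀
  have hdvd : p ∣ Nat.card A := by
    rw [← hord]
    exact orderOf_dvd_natCard x₀
  have h1fix : (1 : A) ∈ MulAction.fixedPoints P A := by
    intro g
    rw [hact, map_one]
  obtain ⟨b, hbfix, hb⟩ := hP.exists_fixed_point_of_prime_dvd_card_of_fixed_point A hdvd h1fix
  let U : Subgroup A :=
    { carrier := {x | ∀ g ∈ P, f g x = x}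
      one_mem' := fun g _ => map_one _
      mul_mem' := by
        intro x y hx hy g hg
        rw [map_mul, hx g hg, hy g hg]
      inv_mem' := by
        intro x hx g hg
        rw [map_inv, hx g hg] }
  have hbU : b ∈ U := fun g hg => hbfix ⟨g, hg⟩
  have hU : U = ⊥ ∨ U = ⊤ := by
    apply hirr
    intro g x hx h hh
    have h2 : g⁻¹ * h * g ∈ P := by
      have := hPn.conj_mem h hh g⁻¹
      simpa using this
    have h3 := hx _ h2
    have h4 : h * g = g * (g⁻¹ * h * g) := by group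
    show (f h) (f g x) = f g x
    rw [← MulAut.mul_apply, ← map_mul, h4, map_mul, MulAut.mul_apply, h3]
  rcases hU with h | h
  · exfalso
    rw [h, Subgroup.mem_bot] at hbU
    exact hb hbU.symm
  · rw [eq_bot_iff]
    intro g hg
    rw [Subgroup.mem_bot]
    apply hf
    rw [map_one]
    ext x
    have hx : x ∈ U := by rw [h]; trivial
    exact hx g hg

/-- The abstract main theorem. -/
theorem main_abstract [Module (ZMod p) (Additive A)] (hp : p ≠ 2)
    (f : L →* MulAut A) (hf : Function.Injective f) (hexp : ∀ x : A, x ^ p = 1)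
    (hirr : ∀ U : Subgroup A, (∀ (g : L), ∀ x ∈ U, f g x ∈ U) → U = ⊥ ∨ U = ⊤)
    (hcase : (∃ (F : Type) (_ : Field F) (_ : CharP F p),
        Nonempty (L ≃* ProjectiveSpecialLinearGroup (Fin 2) F)) ∨
      (p = 3 ∧ ∀ P : Sylow 2 L, ∀ x ∈ (P : Subgroup L), ∀ y ∈ (P : Subgroup L), x * y = y * x))
    {a : L} (ha : ∀ v : A, f a (f a v * v⁻¹) = f a v * v⁻¹) (ha1 : a ≠ 1) : False := by
  classical
  have hnt : ∃ x : A, x ≠ 1 := by
    by_contra hcon
    push Not at hcon
    apply ha1
    apply hf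
    rw [map_one]
    ext x
    rw [hcon x]
    simp
  have hO := pCore_eq_bot (p := p) f hf hexp hnt hirr
  have hap : a ^ p = 1 := pow_eq_one_of_quad f hf ha
  obtain ⟨g, hg⟩ : ∃ g : L, ¬ IsPGroup p ↥(Subgroup.closure {a, g * a * g⁻¹}) := by
    by_contra hcon
    push Not at hcon
    have hmem := Cfsg.Agent.Lib.ZJ.StableQuot.mem_pCore_of_conj (p := p) (a := a)
      ⟨1, by rw [pow_one]; exact hap⟩ hcon
    rw [hO, Subgroup.mem_bot] at hmem
    exact ha1 hmem
  have hb : ∀ v : A, f (g * a * g⁻¹) (f (g * a * g⁻¹) v * v⁻¹) = f (g * a * g⁻¹) v * v⁻¹ := by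
    intro v
    have e : ∀ w : A, f (g * a * g⁻¹) w = f g (f a ((f g)⁻¹ w)) := by
      intro w
      rw [map_mul, map_mul, map_inv]
      rfl
    have e2 : f (g * a * g⁻¹) v * v⁻¹ = f g (f a ((f g)⁻¹ v) * ((f g)⁻¹ v)⁻¹) := by
      rw [e, map_mul, map_inv]
      congr 2
      exact ((f g).apply_symm_apply v).symm
    rw [e2, e]
    have e3 : (f g)⁻¹ (f g (f a ((f g)⁻¹ v) * ((f g)⁻¹ v)⁻¹)) = f a ((f g)⁻¹ v) * ((f g)⁻¹ v)⁻¹ :=
      (f g).symm_apply_apply _
    rw [e3, ha]
  have hnp : ¬ ∀ u ∈ Subgroup.closure {a, g * a * g⁻¹}, ∃ m : ℕ, f (u ^ p ^ m) = 1 := by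
    intro hall
    apply hg
    intro u
    obtain ⟨m, hm⟩ := hall u u.2
    refine ⟨m, Subtype.ext ?_⟩
    apply hf
    show f ((u : L) ^ p ^ m) = f 1
    rw [map_one]
    exact hm
  rcases hcase with ⟨F, iF, iC, ⟨e⟩⟩ | ⟨hp3, hL⟩
  · exact false_psl hp e f hf hexp ha hb hnp ha1
  · subst hp3
    exact false_three hL f ha hb hnp

end abstract

/-- Sylow `2`-subgroups of the Ree groups are abelian. -/
theorem sylow_comm_of_isoRee {L : Type*} [Group L] [Finite L] (h : Cfsg.Lie.IsoRee L) :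
    ∀ P : Sylow 2 L, ∀ x ∈ (P : Subgroup L), ∀ y ∈ (P : Subgroup L), x * y = y * x := by
  obtain ⟨K, iK, iF, m, hm, hK, ⟨e⟩⟩ := h
  intro P x hx y hy
  let P' : Sylow 2 ↥(Cfsg.Lie.twistedG2 K (3 ^ m)) := P.mapSurjective (f := e.toMonoidHom) e.surjective
  have h1 := (Cfsg.Agent.Lib.ReeG2.L5.res1157 hK P').1
  have hx' : e x ∈ (P' : Subgroup ↥(Cfsg.Lie.twistedG2 K (3 ^ m))) := ⟨x, hx, rfl⟩
  have hy' : e y ∈ (P' : Subgroup ↥(Cfsg.Lie.twistedG2 K (3 ^ m))) := ⟨y, hy, rfl⟩
  rw [← h1] at hx'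
  have h2 := Subgroup.mem_centralizer_iff.1 hx' _ hy'
  apply e.injective
  rw [map_mul, map_mul]
  exact h2.symm


end Cfsg.Agent.Lib.NoQuad.Core
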