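import Cfsg.Agent.Lib.NoQuad.Core
import Cfsg.Agent.Lib.PLocal.BorelTwo

/-!
# No quadratic action: the concrete statement
-/

set_option autoImplicit false
set_option linter.unusedSectionVars false
set_option linter.unusedVariables false
set_option linter.style.haveILetI false
set_option linter.unusedSimpArgs false

open scoped commutatorElement

namespace Cfsg.Agent.Lib.NoQuad.Main

open Cfsg

theorem main {G : Type*} [Group G] [Finite G] {p : ℕ} [Fact p.Prime] (V H : Subgroup G) (hV : Cfsg.IsElementaryAbelian p V) (hHV : H ≤ Subgroup.normalizer (V : Set G)) (hirr : ∀ U : Subgroup G, U ≤ V → H ≤ Subgroup.normalizer (U : Set G) → U = ⊥ ∨ U = V) (hnt : ¬ H ≤ Subgroup.centralizer (V : Set G)) [hn : ((Subgroup.centralizer (V : Set G)).subgroupOf H).Normal] (hq : (∃ (F : Type) (_ : Field F) (_ : Fintype F) (n : ℕ), Fintype.card F = p ^ n ∧ Odd (Fintype.card F) ∧ Nonempty (↥H ⧸ (Subgroup.centralizer (V : Set G)).subgroupOf H ≃* Matrix.ProjectiveSpecialLinearGroup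 (Fin 2) F)) ∨ (p = 3 ∧ Cfsg.Lie.IsoRee (↥H ⧸ (Subgroup.centralizer (V : Set G)).subgroupOf H))) (A : Subgroup G) (hA : A ≤ H) (hquad : ⁅⁅V, A⁆, A⁆ = ⊥) : ⁅V, A⁆ = ⊥ := by
  classical
  by_contra hne
  have hcommV : ∀ x y : V, x * y = y * x := fun x y =>
    Subtype.ext (hV.1.is_comm.comm x y |> congrArg Subtype.val)
  have hexpV : ∀ x : V, x ^ p = 1 := fun x => Subtype.ext (hV.2 x x.2)
  -- the action
  let f₀ : ↥H →* MulAut ↥V := V.normalizerMonoidHom.comp (Subgroup.inclusion hHV)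
  have hf₀ : ∀ (g : ↥H) (x : V), ((f₀ g x : V) : G) = g * x * (g : G)⁻¹ := fun _ _ => rfl
  set N := (Subgroup.centralizer (V : Set G)).subgroupOf H with hN
  have hker : ∀ g : ↥H, f₀ g = 1 ↔ g ∈ N := by
    intro g
    constructor
    · intro h1
      rw [hN, Subgroup.mem_subgroupOf, Subgroup.mem_centralizer_iff]
      intro v hv
      have h2 := congrArg (fun u : MulAut V => ((u ⟨v, hv⟩ : V) : G)) h1
      simp only [hf₀] at h2
      have h3 : (g : G) * v * (g : G)⁻¹ = v := h2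
      calc v * (g : G) = ((g : G) * v * (g : G)⁻¹) * g := by rw [h3]
        _ = (g : G) * v := by group
    · intro h1
      rw [hN, Subgroup.mem_subgroupOf, Subgroup.mem_centralizer_iff] at h1
      ext x
      rw [hf₀]
      have h2 := h1 x x.2
      show (g : G) * x * (g : G)⁻¹ = x
      rw [← h2]
      group
  let f : (↥H ⧸ N) →* MulAut ↥V := QuotientGroup.lift N f₀ (fun g hg => (hker g).2 hg)
  have hfmk : ∀ g : ↥H, f (QuotientGroup.mk g) = f₀ g := fun _ => rfl
  have hf : Function.Injective f := by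
    rw [injective_iff_map_eq_one]
    intro q hq1
    obtain ⟨g, rfl⟩ := QuotientGroup.mk_surjective q
    rw [hfmk] at hq1
    exact (QuotientGroup.eq_one_iff g).2 ((hker g).1 hq1)
  -- the commutator
  obtain ⟨v₀, hv₀, a₀, ha₀, hva⟩ : ∃ v₀ ∈ V, ∃ a₀ ∈ A, ⁅v₀, a₀⁆ ≠ 1 := by
    by_contra hcon
    push Not at hcon
    apply hne
    rw [eq_bot_iff, Subgroup.commutator_le]
    intro v hv a ha
    rw [Subgroup.mem_bot]
    exact hcon v hv a ha
  let a : ↥H := ⟨a₀, hA ha₀⟩
  have ha1 : (QuotientGroup.mk a : ↥H ⧸ N) ≠ 1 := by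
    intro h1
    have h2 := (QuotientGroup.eq_one_iff a).1 h1
    rw [hN, Subgroup.mem_subgroupOf, Subgroup.mem_centralizer_iff] at h2
    apply hva
    rw [commutatorElement_eq_one_iff_mul_comm]
    exact h2 v₀ hv₀
  letI instC : CommGroup V := { (inferInstance : Group V) with mul_comm := hcommV }
  have hexp' : ∀ x : Additive V, p • x = 0 := fun x => hexpV (Additive.toMul x)
  letI hmod : Module (ZMod p) (Additive V) := AddCommGroup.zmodModule hexp'
  have hquad' : ∀ x : V, f (QuotientGroup.mk a) (f (QuotientGroup.mk a) x * x⁻¹) =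
      f (QuotientGroup.mk a) x * x⁻¹ := by
    intro x
    apply Subtype.ext
    rw [hfmk]
    have h1 : ⁅⁅(x : G), a₀⁆, a₀⁆ = 1 := by
      have h2 : ⁅⁅(x : G), a₀⁆, a₀⁆ ∈ ⁅⁅V, A⁆, A⁆ :=
        Subgroup.commutator_mem_commutator (Subgroup.commutator_mem_commutator x.2 ha₀) ha₀
      rw [hquad, Subgroup.mem_bot] at h2
      exact h2
    exact Cfsg.Agent.Lib.QuadAct.PStable.conj_quad_aux a₀ (x : G) h1
  -- irreducibility
  have hirr' : ∀ U : Subgroup V, (∀ (g : ↥H ⧸ N), ∀ x ∈ U, f g x ∈ U) → U = ⊥ ∨ U = ⊤ := by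
    intro U hU
    have hnorm : H ≤ Subgroup.normalizer ((U.map V.subtype : Subgroup G) : Set G) := by
      intro h hh
      rw [Subgroup.mem_normalizer_iff]
      intro y
      constructor
      · rintro ⟨x, hx, rfl⟩
        exact ⟨_, hU (QuotientGroup.mk ⟨h, hh⟩) x hx, rfl⟩
      · rintro ⟨z, hz, hzy⟩
        have h2 := hU (QuotientGroup.mk ⟨h⁻¹, H.inv_mem hh⟩) z hz
        refine ⟨_, h2, ?_⟩
        rw [hfmk, Subgroup.subtype_apply, hf₀]
        have hzy' : (z : G) = h * y * h⁻¹ := hzy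
        simp only [hzy']
        group
    rcases hirr _ (by
      rintro _ ⟨x, -, rfl⟩
      exact x.2) hnorm with h | h
    · left
      rw [eq_bot_iff]
      intro x hx
      have h2 : (x : G) ∈ U.map V.subtype := ⟨x, hx, rfl⟩
      rw [h, Subgroup.mem_bot] at h2
      rw [Subgroup.mem_bot]
      exact Subtype.ext h2
    · right
      rw [eq_top_iff]
      intro x _
      have h2 : (x : G) ∈ U.map V.subtype := by rw [h]; exact x.2
      obtain ⟨y, hy, hyx⟩ := h2
      have : y = x := Subtype.ext hyx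
      rwa [← this]
  -- the cases
  have hp2 : p ≠ 2 ∧ ((∃ (F : Type) (_ : Field F) (_ : CharP F p),
      Nonempty ((↥H ⧸ N) ≃* Matrix.ProjectiveSpecialLinearGroup (Fin 2) F)) ∨
      (p = 3 ∧ ∀ P : Sylow 2 (↥H ⧸ N), ∀ x ∈ (P : Subgroup (↥H ⧸ N)),
        ∀ y ∈ (P : Subgroup (↥H ⧸ N)), x * y = y * x)) := by
    rcases hq with ⟨F, iF, iT, n, hF, hodd, ⟨e⟩⟩ | ⟨hp3, hree⟩
    · haveI : CharP F p := Cfsg.Agent.Lib.PLocal.BorelTwo.charP_of_card F n hF
      refine ⟨?_, Or.inl ⟨F, iF, inferInstance, ⟨e⟩⟩⟩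
      rintro rfl
      have h1 : Fintype.card F ≠ 1 := (Fintype.one_lt_card).ne'
      rw [hF] at hodd h1
      have hn : n ≠ 0 := by
        rintro rfl
        exact h1 (pow_zero 2)
      exact (Nat.not_even_iff_odd.2 hodd) ((Nat.even_pow' hn).2 even_two)
    · refine ⟨by rw [hp3]; norm_num, Or.inr ⟨hp3, ?_⟩⟩
      exact Cfsg.Agent.Lib.NoQuad.Core.sylow_comm_of_isoRee hree
  exact Cfsg.Agent.Lib.NoQuad.Core.main_abstract hp2.1 f hf hexpV hirr' hp2.2 hquad' ha1

end Cfsg.Agent.Lib.NoQuad.Main
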